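import Groth.Agent.ResProp.EF.K380.DCF
import Mathlib.RingTheory.Flat.Basic
import Mathlib.LinearAlgebra.TensorProduct.Prod
import Mathlib.Algebra.Category.ModuleCat.Biproducts
import Mathlib.Algebra.Category.ModuleCat.Abelian

/-!
# Additive functors and total complexes of `F(K)` (S16912, G6c, node [CHART] (D))

`F : M ⥤ CochainComplex C ℤ` (the cobar functor), `F' : M' ⥤ CochainComplex C' ℤ`, additive functors `Φ : C ⥤ C'`,
`Φ' : M ⥤ M'` and an isomorphism `β : F ⋙ Φ ≅ Φ' ⋙ F'`.  Then `Φ (Tot F(K)) ≅ Tot F'(Φ' K)`, natural in `K` and in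
`(Φ, Φ', β)`.
-/

set_option autoImplicit false
set_option backward.isDefEq.respectTransparency false

universe v₁ v₂ v₃ v₄ u₁ u₂ u₃ u₄

open CategoryTheory Category Limits HomologicalComplex₂ ComplexShape

namespace Groth.Agent.ResProp.EF.K118.TotCob

open Groth.Agent.Htor.H253.TotalPrj K236.TotalTools K380.DCF K380.DC

variable {M : Type u₁} [Category.{v₁} M] [Abelian M] {C : Type u₂} [Category.{v₂} C] [Abelian C]
  {M' : Type u₃} [Category.{v₃} M'] [Abelian M'] {C' : Type u₄} [Category.{v₄} C'] [Abelian C']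
  {F : M ⥤ CochainComplex C ℤ} [F.Additive] {F' : M' ⥤ CochainComplex C' ℤ} [F'.Additive]
  {Φ : C ⥤ C'} [Φ.Additive] {Φ' : M ⥤ M'} [Φ'.Additive]
  (β : F ⋙ Φ.mapHomologicalComplex (up ℤ) ≅ Φ' ⋙ F')

/-- `Φ'` on complexes. -/
noncomputable abbrev mc (Φ' : M ⥤ M') [Φ'.Additive] (K : CochainComplex M ℤ) : CochainComplex M' ℤ :=
  (Φ'.mapHomologicalComplex (up ℤ)).obj K

/-- the isomorphism of double complexes `Φ (F(K)) ≅ F'(Φ' K)` -/
noncomputable def dcIso (K : CochainComplex M ℤ) : mapD Φ (dc F K) ≅ dc F' (mc Φ' K) :=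
  (NatIso.mapHomologicalComplex β (up ℤ)).app K

lemma dcIso_hom_f (K : CochainComplex M ℤ) (i : ℤ) : (dcIso β K).hom.f i = β.hom.app (K.X i) := rfl

lemma dcIso_naturality {K L : CochainComplex M ℤ} (f : K ⟶ L) :
    mapDMap Φ ((F.mapHomologicalComplex (up ℤ)).map f) ≫ (dcIso β L).hom =
      (dcIso β K).hom ≫ (F'.mapHomologicalComplex (up ℤ)).map ((Φ'.mapHomologicalComplex (up ℤ)).map f) :=
  (NatIso.mapHomologicalComplex β (up ℤ)).hom.naturality f

/-- `F(K)` as a double complex -/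
noncomputable abbrev bi (F : M ⥤ CochainComplex C ℤ) [F.Additive] (K : CochainComplex M ℤ) :
    HomologicalComplex₂ C (up ℤ) (up ℤ) := dc F K

/-- a morphism of complexes induces a morphism of double complexes -/
noncomputable abbrev biMap (F : M ⥤ CochainComplex C ℤ) [F.Additive] {K L : CochainComplex M ℤ} (f : K ⟶ L) :
    bi F K ⟶ bi F L := (F.mapHomologicalComplex (up ℤ)).map f

section

variable {K L : CochainComplex M ℤ} (hK : Bdd (bi F K)) (hL : Bdd (bi F L))
  [(bi F K).HasTotal (up ℤ)] [(bi F' (mc Φ' K)).HasTotal (up ℤ)]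
  [(bi F L).HasTotal (up ℤ)] [(bi F' (mc Φ' L)).HasTotal (up ℤ)]

/-- `Φ (Tot F(K)) ≅ Tot F'(Φ' K)` -/
noncomputable def totIso :
    (Φ.mapHomologicalComplex (up ℤ)).obj ((bi F K).total (up ℤ)) ≅ (bi F' (mc Φ' K)).total (up ℤ) :=
  haveI := K236.TotalTools.hasTotal (bdd_mapD Φ hK)
  (mapTotalIso Φ hK).symm ≪≫ total.mapIso (dcIso β K) (up ℤ)

/-- naturality in the complex -/
lemma totIso_naturality (f : K ⟶ L) :
    (Φ.mapHomologicalComplex (up ℤ)).map (total.map (biMap F f) (up ℤ)) ≫ (totIso β hL).hom =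
      (totIso β hK).hom ≫ total.map (biMap F' ((Φ'.mapHomologicalComplex (up ℤ)).map f)) (up ℤ) := by
  have := K236.TotalTools.hasTotal (bdd_mapD Φ hK)
  have := K236.TotalTools.hasTotal (bdd_mapD Φ hL)
  have h1 := mapTotalIso_naturality Φ hK hL (biMap F f)
  have h2 : total.map (mapDMap Φ (biMap F f)) (up ℤ) ≫ total.map (dcIso β L).hom (up ℤ) =
      total.map (dcIso β K).hom (up ℤ) ≫ total.map (biMap F' ((Φ'.mapHomologicalComplex (up ℤ)).map f)) (up ℤ) := by
    rw [← total.map_comp, ← total.map_comp]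
    exact congrArg (fun g => total.map g (up ℤ)) (dcIso_naturality β f)
  have e : ∀ (K : CochainComplex M ℤ) (hK : Bdd (bi F K)) [(bi F K).HasTotal (up ℤ)]
      [(bi F' (mc Φ' K)).HasTotal (up ℤ)] [(mapD Φ (bi F K)).HasTotal (up ℤ)],
      (totIso β hK).hom = (mapTotalIso Φ hK).inv ≫ total.map (dcIso β K).hom (up ℤ) := fun _ _ _ _ _ => rfl
  rw [e K hK, e L hL, ← cancel_epi (mapTotalIso Φ hK).hom, ← reassoc_of% h1, Iso.hom_inv_id_assoc, Category.assoc,
    Iso.hom_inv_id_assoc, h2]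

end

/-! ### Naturality in `(Φ, Φ', β)` -/

section natural

variable {Φ₁ Φ₂ : C ⥤ C'} [Φ₁.Additive] [Φ₂.Additive] {Φ₁' Φ₂' : M ⥤ M'} [Φ₁'.Additive] [Φ₂'.Additive]
  (β₁ : F ⋙ Φ₁.mapHomologicalComplex (up ℤ) ≅ Φ₁' ⋙ F') (β₂ : F ⋙ Φ₂.mapHomologicalComplex (up ℤ) ≅ Φ₂' ⋙ F')
  (τ : Φ₁ ⟶ Φ₂) (τ' : Φ₁' ⟶ Φ₂')

/-- `τ` on double complexes -/
noncomputable def mapDNat (D : HomologicalComplex₂ C (up ℤ) (up ℤ)) : mapD Φ₁ D ⟶ mapD Φ₂ D :=
  (NatTrans.mapHomologicalComplex (NatTrans.mapHomologicalComplex τ (up ℤ)) (up ℤ)).app D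

lemma mapDNat_f_f (D : HomologicalComplex₂ C (up ℤ) (up ℤ)) (i j : ℤ) :
    ((mapDNat τ D).f i).f j = τ.app ((D.X i).X j) := rfl

lemma mapTotalIso_natural {D : HomologicalComplex₂ C (up ℤ) (up ℤ)} (hD : Bdd D) [D.HasTotal (up ℤ)]
    [(mapD Φ₁ D).HasTotal (up ℤ)] [(mapD Φ₂ D).HasTotal (up ℤ)] :
    total.map (mapDNat τ D) (up ℤ) ≫ (mapTotalIso Φ₂ hD).hom =
      (mapTotalIso Φ₁ hD).hom ≫ (NatTrans.mapHomologicalComplex τ (up ℤ)).app (D.total (up ℤ)) := by
  ext n : 1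
  rw [HomologicalComplex.comp_f, HomologicalComplex.comp_f, mapTotalIso_hom_f, mapTotalIso_hom_f]
  apply total.hom_ext
  intro i j hij
  rw [ιTotal_map_assoc, ι_mapTotalX Φ₂ i j n hij, reassoc_of% (ι_mapTotalX (D := D) Φ₁ i j n hij), mapDNat_f_f]
  change τ.app ((D.X i).X j) ≫ Φ₂.map _ = Φ₁.map _ ≫ τ.app _
  rw [τ.naturality]

lemma totIso_natural (h : β₁.hom ≫ Functor.whiskerRight τ' F' =
    Functor.whiskerLeft F (NatTrans.mapHomologicalComplex τ (up ℤ)) ≫ β₂.hom)
    {K : CochainComplex M ℤ} (hK : Bdd (bi F K)) [(bi F K).HasTotal (up ℤ)]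
    [(bi F' (mc Φ₁' K)).HasTotal (up ℤ)] [(bi F' (mc Φ₂' K)).HasTotal (up ℤ)] :
    (NatTrans.mapHomologicalComplex τ (up ℤ)).app ((bi F K).total (up ℤ)) ≫ (totIso β₂ hK).hom =
      (totIso β₁ hK).hom ≫ total.map (biMap F' ((NatTrans.mapHomologicalComplex τ' (up ℤ)).app K)) (up ℤ) := by
  have := K236.TotalTools.hasTotal (bdd_mapD Φ₁ hK)
  have := K236.TotalTools.hasTotal (bdd_mapD Φ₂ hK)
  have h1 := mapTotalIso_natural τ hK
  have h2 : total.map (mapDNat τ (bi F K)) (up ℤ) ≫ total.map (dcIso β₂ K).hom (up ℤ) =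
      total.map (dcIso β₁ K).hom (up ℤ) ≫
        total.map (biMap F' ((NatTrans.mapHomologicalComplex τ' (up ℤ)).app K)) (up ℤ) := by
    rw [← total.map_comp, ← total.map_comp]
    refine congrArg (fun g => total.map g (up ℤ)) ?_
    ext i : 1
    exact (congrArg (fun (g : F ⋙ Φ₁.mapHomologicalComplex (up ℤ) ⟶ Φ₂' ⋙ F') => g.app (K.X i)) h).symm
  change _ ≫ (mapTotalIso Φ₂ hK).inv ≫ total.map (dcIso β₂ K).hom (up ℤ) =
    ((mapTotalIso Φ₁ hK).inv ≫ total.map (dcIso β₁ K).hom (up ℤ)) ≫ _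
  rw [← cancel_epi (mapTotalIso Φ₁ hK).hom, ← reassoc_of% h1, Iso.hom_inv_id_assoc, Category.assoc,
    Iso.hom_inv_id_assoc, h2]

end natural

/-! ### Terms of the total complex -/

section terms

variable {D : HomologicalComplex₂ C (up ℤ) (up ℤ)} [D.HasTotal (up ℤ)]

omit [Abelian C] in
lemma exists_sum [Preadditive C] [HasBinaryBiproducts C] (P : ObjectProperty C)
    (Z₀ : C) (h0 : P Z₀) (hsum : ∀ X Y : C, P X → P Y → P (X ⊞ Y)) (X : C) (Y : ℤ → C)
    (p : ∀ i, X ⟶ Y i) (q : ∀ i, Y i ⟶ X) (hY : ∀ i, P (Y i)) (s : Finset ℤ) :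
    ∃ (Z : C) (_ : P Z) (a : X ⟶ Z) (b : Z ⟶ X), a ≫ b = ∑ i ∈ s, p i ≫ q i := by
  classical
  induction s using Finset.induction_on with
  | empty => exact ⟨Z₀, h0, 0, 0, by simp⟩
  | insert c s hc ih =>
    obtain ⟨Z, hZ, a, b, hab⟩ := ih
    exact ⟨Y c ⊞ Z, hsum _ _ (hY c) hZ, biprod.lift (p c) a, biprod.desc (q c) b, by
      rw [biprod.lift_desc, hab, Finset.sum_insert hc]⟩

/-- the terms of the total complex of a bounded double complex are in every class closed under finite sums and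
retracts -/
theorem prop_total_X (P : ObjectProperty C) (Z₀ : C) (h0 : P Z₀) (hsum : ∀ X Y : C, P X → P Y → P (X ⊞ Y))
    (hret : ∀ (X Y : C) (i : X ⟶ Y) (r : Y ⟶ X), i ≫ r = 𝟙 X → P Y → P X)
    (hD : Bdd D) (hP : ∀ i j : ℤ, P ((D.X i).X j)) (n : ℤ) : P ((D.total (up ℤ)).X n) := by
  obtain ⟨lo, hi, h⟩ := hD n
  obtain ⟨Z, hZ, a, b, hab⟩ := exists_sum P Z₀ h0 hsum ((D.total (up ℤ)).X n) (fun i => (D.X i).X (n - i))
    (fun i => prj D i (n - i) n) (fun i => D.ιTotal (up ℤ) i (n - i) n (by dsimp; lia)) (fun i => hP i _)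
    (Finset.Icc lo hi)
  refine hret _ Z a b ?_ hZ
  rw [hab, id_eq_sum n lo hi h]

lemma flat_prod {R A B : Type*} [CommRing R] [AddCommGroup A] [AddCommGroup B] [Module R A]
    [Module R B] [Module.Flat R A] [Module.Flat R B] : Module.Flat R (A × B) := by
  rw [Module.Flat.iff_rTensor_preserves_injective_linearMap]
  intro N P _ _ _ _ f hf
  have h1 : (TensorProduct.prodRight R R P A B).toLinearMap ∘ₗ (f.rTensor (A × B)) =
      ((f.rTensor A).prodMap (f.rTensor B)) ∘ₗ (TensorProduct.prodRight R R N A B).toLinearMap := by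
    apply TensorProduct.ext'
    intro x y
    rfl
  have h2 : Function.Injective
      ((TensorProduct.prodRight R R P A B).toLinearMap ∘ₗ (f.rTensor (A × B))) := by
    rw [h1]
    have h3 : Function.Injective ((f.rTensor A).prodMap (f.rTensor B)) :=
      Prod.map_injective.mpr ⟨Module.Flat.rTensor_preserves_injective_linearMap f hf,
        Module.Flat.rTensor_preserves_injective_linearMap f hf⟩
    exact h3.comp (TensorProduct.prodRight R R N A B).injective
  exact Function.Injective.of_comp (f := (TensorProduct.prodRight R R P A B)) h2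

/-- flat terms: for an additive functor `us` to modules, if all `us (D.X i).X j` are flat, so are the terms of
`us (Tot D)`. -/
theorem flat_total_X {A : Type u₃} [CommRing A] (us : C ⥤ ModuleCat.{v₃} A) [us.Additive]
    (hD : Bdd D) (hP : ∀ i j : ℤ, Module.Flat A (us.obj ((D.X i).X j))) (n : ℤ) :
    Module.Flat A (us.obj ((D.total (up ℤ)).X n)) := by
  refine prop_total_X (fun X => Module.Flat A (us.obj X)) (⊥_ C) ?_ ?_ ?_ hD hP n
  · have h := ModuleCat.subsingleton_of_isZero (us.map_isZero (initialIsInitial.isZero))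
    infer_instance
  · intro X Y hX hY
    have := preservesBinaryBiproducts_of_preservesBiproducts us
    have e := (us.mapBiprod X Y) ≪≫ (ModuleCat.biprodIsoProd (us.obj X) (us.obj Y))
    have h1 : Module.Flat A (us.obj X) := hX
    have h2 : Module.Flat A (us.obj Y) := hY
    have h3 : Module.Flat A (us.obj X × us.obj Y) := flat_prod
    exact Module.Flat.of_linearEquiv e.toLinearEquiv
  · intro X Y i r h hY
    have := hY
    exact Module.Flat.of_retract (us.map i).hom (us.map r).hom (by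
      rw [← ModuleCat.hom_comp, ← us.map_comp, h, us.map_id]
      rfl)

/-- the total complex of a double complex in degrees `≥ a`, `≥ b` is in degrees `≥ a + b` -/
theorem isStrictlyGE_total {a b : ℤ} (hD : Quad a b D) (c : ℤ) (hc : c = a + b) :
    CochainComplex.IsStrictlyGE (D.total (up ℤ)) c := by
  rw [CochainComplex.isStrictlyGE_iff]
  intro n hn
  rw [IsZero.iff_id_eq_zero]
  apply total.hom_ext
  intro i j hij
  have hij' : i + j = n := hij
  exact (hD i j (by lia)).eq_of_src _ _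

end terms

end Groth.Agent.ResProp.EF.K118.TotCob
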