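import Groth.Agent.ResProp.EF.K496.CobNat
import Groth.Agent.ResProp.EF.K118.TotCob
import Groth.Agent.ResProp.EF.K945.TensN

/-!
# Functors compatible with comonads: composition, exactness, naturality (`S16912`, [CHART] (D), helper118)

On `K496.CHom` (`Φ G ≅ G' Φ`, compatible with counit, comultiplication, unit):
* `comp`, `compLift : (F.comp F').lift ≅ F.lift ⋙ F'.lift`;
* `lift` is additive, faithful and preserves the limits / colimits preserved by `Φ`;
* `cobIso_natural` (naturality of `CHom.cobIso` in `(Φ, iso)`), with `liftNat`;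
* `beta`: `(tw ⋙ U.Cob) ⋙ Φ ≅ F.lift ⋙ (tw' ⋙ U'.Cob)` from `tw ⋙ F.lift ≅ F.lift ⋙ tw'`;
* `ofStrength`: `CHom U U (S.flip.obj N)` from an invertible `K945.Strength`, with
  `(ofStrength ..).lift = σ.bifunctor.flip.obj N`; `gammaCob` for `GO R O`.
-/

set_option autoImplicit false

noncomputable section

open CategoryTheory CategoryTheory.Limits

namespace Groth.Agent.ResProp.EF.K118.Lift

open Groth.Agent.ResProp.EF.K496

universe v v' v'' u u' u'' w w' t t'

variable {C : Type u} [Category.{v} C] {C' : Type u'} [Category.{v'} C'] {C'' : Type u''} [Category.{v''} C'']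
variable {G : Comonad C} {G' : Comonad C'} {G'' : Comonad C''}
variable {U : CUnit G} {U' : CUnit G'} {U'' : CUnit G''}

/-! ### Composition -/

section Comp

variable {Φ : C ⥤ C'} {Ψ : C' ⥤ C''}

/-- composition -/
def comp (F : CHom U U' Φ) (F' : CHom U' U'' Ψ) : CHom U U'' (Φ ⋙ Ψ) where
  iso N := Ψ.mapIso (F.iso N) ≪≫ F'.iso (Φ.obj N)
  nat {M N} f := by
    have h1 := F.nat f
    have h2 := F'.nat (Φ.map f)
    change Ψ.map (Φ.map (G.map f)) ≫ Ψ.map (F.iso N).hom ≫ (F'.iso (Φ.obj N)).hom =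
      (Ψ.map (F.iso M).hom ≫ (F'.iso (Φ.obj M)).hom) ≫ G''.map (Ψ.map (Φ.map f))
    rw [← Ψ.map_comp_assoc, h1, Ψ.map_comp_assoc, h2, Category.assoc]
  eps N := by
    have h1 := F.eps N
    have h2 := F'.eps (Φ.obj N)
    change (Ψ.map (F.iso N).hom ≫ (F'.iso (Φ.obj N)).hom) ≫ G''.ε.app _ = Ψ.map (Φ.map (G.ε.app N))
    rw [Category.assoc]
    refine (congrArg (fun t => Ψ.map (F.iso N).hom ≫ t) h2).trans ?_
    rw [← Ψ.map_comp]
    exact congrArg Ψ.map h1
  del N := by
    have h1 := F.del N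
    have h2 := F'.del (Φ.obj N)
    have h3 := F'.nat (F.iso N).hom
    change Ψ.map (Φ.map (dl G N)) ≫ (Ψ.map (F.iso (G.obj N)).hom ≫ (F'.iso (Φ.obj (G.obj N))).hom) ≫
        G''.map (Ψ.map (F.iso N).hom ≫ (F'.iso (Φ.obj N)).hom) =
      (Ψ.map (F.iso N).hom ≫ (F'.iso (Φ.obj N)).hom) ≫ dl G'' (Ψ.obj (Φ.obj N))
    rw [Category.assoc (Ψ.map (F.iso N).hom), ← h2, G''.map_comp, ← Ψ.map_comp_assoc (F.iso N).hom, ← h1]
    simp only [Functor.map_comp, Category.assoc]
    rw [reassoc_of% h3]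
  one N := by
    have h1 := F.one N
    have h2 := F'.one (Φ.obj N)
    change Ψ.map (Φ.map (U.e N)) ≫ Ψ.map (F.iso N).hom ≫ (F'.iso (Φ.obj N)).hom = U''.e _
    rw [← Ψ.map_comp_assoc, h1, h2]

lemma comp_iso_hom (F : CHom U U' Φ) (F' : CHom U' U'' Ψ) (N : C) :
    ((comp F F').iso N).hom = Ψ.map (F.iso N).hom ≫ (F'.iso (Φ.obj N)).hom := rfl

/-- the lift of a composition, objects -/
def compLiftObj (F : CHom U U' Φ) (F' : CHom U' U'' Ψ) (M : G.Coalgebra) :
    (comp F F').lift.obj M ≅ F'.lift.obj (F.lift.obj M) :=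
  Comonad.Coalgebra.isoMk (Iso.refl (Ψ.obj (Φ.obj M.A))) (by
    change (Ψ.map (Φ.map M.a) ≫ Ψ.map (F.iso M.A).hom ≫ (F'.iso (Φ.obj M.A)).hom) ≫ G''.map (𝟙 (Ψ.obj (Φ.obj M.A))) =
      𝟙 _ ≫ Ψ.map (Φ.map M.a ≫ (F.iso M.A).hom) ≫ (F'.iso (Φ.obj M.A)).hom
    rw [G''.map_id, Category.comp_id, Category.id_comp, Ψ.map_comp, Category.assoc])

/-- the lift of a composition -/
def compLift (F : CHom U U' Φ) (F' : CHom U' U'' Ψ) : (comp F F').lift ≅ F.lift ⋙ F'.lift :=
  NatIso.ofComponents (fun M => compLiftObj F F' M) fun {M N} f => by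
    ext
    change Ψ.map (Φ.map f.f) ≫ 𝟙 _ = 𝟙 _ ≫ Ψ.map (Φ.map f.f)
    rw [Category.comp_id, Category.id_comp]

end Comp

/-! ### Exactness of the lift -/

section Exact

variable {Φ : C ⥤ C'} (F : CHom U U' Φ)

/-- the lift on underlying objects -/
def liftForget : F.lift ⋙ G'.forget ≅ G.forget ⋙ Φ := Iso.refl _

instance faithful_lift [Φ.Faithful] : F.lift.Faithful where
  map_injective {M N f g} h := by
    ext
    apply Φ.map_injective
    exact congrArg (fun t => G'.forget.map t) h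

instance preservesColimitsOfShape_lift {J : Type w} [Category.{w'} J] [HasColimitsOfShape J C]
    [HasColimitsOfShape J C'] [PreservesColimitsOfShape J Φ] : PreservesColimitsOfShape J F.lift := by
  have : PreservesColimitsOfShape J (F.lift ⋙ G'.forget) :=
    inferInstanceAs (PreservesColimitsOfShape J (G.forget ⋙ Φ))
  exact preservesColimitsOfShape_of_reflects_of_preserves _ G'.forget

instance preservesLimitsOfShape_lift {J : Type w} [Category.{w'} J] [HasLimitsOfShape J C]
    [HasLimitsOfShape J C'] [PreservesLimitsOfShape J G.toFunctor] [PreservesLimitsOfShape J G'.toFunctor]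
    [PreservesLimitsOfShape J Φ] : PreservesLimitsOfShape J F.lift := by
  have : PreservesLimitsOfShape J (F.lift ⋙ G'.forget) :=
    inferInstanceAs (PreservesLimitsOfShape J (G.forget ⋙ Φ))
  exact preservesLimitsOfShape_of_reflects_of_preserves _ G'.forget

instance preservesFiniteColimits_lift [HasFiniteColimits C] [HasFiniteColimits C'] [PreservesFiniteColimits Φ] :
    PreservesFiniteColimits F.lift where
  preservesFiniteColimits _ _ _ := inferInstance

instance preservesFiniteLimits_lift [HasFiniteLimits C] [HasFiniteLimits C'] [PreservesFiniteLimits G.toFunctor]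
    [PreservesFiniteLimits G'.toFunctor] [PreservesFiniteLimits Φ] : PreservesFiniteLimits F.lift where
  preservesFiniteLimits _ _ _ := inferInstance

instance additive_lift [Abelian C] [Abelian C'] [G.toFunctor.Additive] [G'.toFunctor.Additive]
    [PreservesFiniteLimits G.toFunctor] [PreservesFiniteLimits G'.toFunctor] [Φ.Additive] : F.lift.Additive where
  map_add {M N f g} := by
    ext
    change Φ.map (f.f + g.f) = Φ.map f.f + Φ.map g.f
    exact Φ.map_add

end Exact

/-! ### Naturality in the functor -/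

section Natural

variable {Φ₁ Φ₂ : C ⥤ C'} (F₁ : CHom U U' Φ₁) (F₂ : CHom U U' Φ₂) (τ : Φ₁ ⟶ Φ₂)

/-- `τ` is compatible with the structure isomorphisms -/
def Compat : Prop := ∀ N : C, τ.app (G.obj N) ≫ (F₂.iso N).hom = (F₁.iso N).hom ≫ G'.map (τ.app N)

variable {F₁ F₂ τ} (hτ : Compat F₁ F₂ τ)

/-- the induced map on coalgebras -/
@[simps]
def liftNat : F₁.lift ⟶ F₂.lift where
  app M :=
    { f := τ.app M.A
      h := by
        have h1 := hτ M.A
        have h2 : Φ₁.map M.a ≫ τ.app (G.obj M.A) = τ.app M.A ≫ Φ₂.map M.a := τ.naturality M.a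
        change (Φ₁.map M.a ≫ (F₁.iso M.A).hom) ≫ G'.map (τ.app M.A) = τ.app M.A ≫ Φ₂.map M.a ≫ (F₂.iso M.A).hom
        rw [Category.assoc, ← h1, reassoc_of% h2] }
  naturality M N f := by
    ext
    exact τ.naturality f.f

include hτ in
lemma pwIso_natural (N : C) (n : ℕ) :
    τ.app (pw G N n) ≫ (F₂.pwIso N n).hom = (F₁.pwIso N n).hom ≫ pwMap G' (τ.app N) n := by
  induction n with
  | zero =>
    change τ.app N ≫ 𝟙 _ = 𝟙 _ ≫ τ.app N
    rw [Category.comp_id, Category.id_comp]
  | succ n ih =>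
    have h1 : τ.app (G.obj (pw G N n)) ≫ (F₂.iso (pw G N n)).hom =
      (F₁.iso (pw G N n)).hom ≫ G'.map (τ.app (pw G N n)) := hτ _
    change τ.app (G.obj (pw G N n)) ≫ (F₂.iso _).hom ≫ G'.map (F₂.pwIso N n).hom =
      ((F₁.iso _).hom ≫ G'.map (F₁.pwIso N n).hom) ≫ G'.map (pwMap G' (τ.app N) n)
    rw [reassoc_of% h1, Category.assoc, ← G'.map_comp, ← G'.map_comp, ih]

variable [Preadditive C] [Preadditive C'] [Φ₁.Additive] [Φ₂.Additive] [G'.toFunctor.Additive]
  [HasZeroObject C] [HasZeroObject C'] [G.toFunctor.Additive]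

/-- the comparison isomorphisms are natural in the functor: hypothesis `h` of `TotCob.totIso_natural` -/
lemma cobIso_natural :
    F₁.cobIso.hom ≫ Functor.whiskerRight (liftNat hτ) U'.Cob =
      Functor.whiskerLeft U.Cob (NatTrans.mapHomologicalComplex τ (ComplexShape.up ℤ)) ≫ F₂.cobIso.hom := by
  ext M n
  change (F₁.cobXIso M.A n).hom ≫ cobMap G' (τ.app M.A) n = τ.app (cobX G M.A n) ≫ (F₂.cobXIso M.A n).hom
  cases n with
  | ofNat n => exact (pwIso_natural hτ M.A n).symm
  | negSucc n => exact (isZero_zero C').eq_of_tgt _ _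

end Natural

/-! ### The comparison with a twist -/

section Beta

variable {Φ : C ⥤ C'} (F : CHom U U' Φ)
  [Preadditive C] [Preadditive C'] [Φ.Additive] [G'.toFunctor.Additive]
  [HasZeroObject C] [HasZeroObject C'] [G.toFunctor.Additive]

/-- `Φ Cob(tw M) = Cob(tw' (Φ M))` -/
def beta {tw : G.Coalgebra ⥤ G.Coalgebra} {tw' : G'.Coalgebra ⥤ G'.Coalgebra} (θ : tw ⋙ F.lift ≅ F.lift ⋙ tw') :
    (tw ⋙ U.Cob) ⋙ Φ.mapHomologicalComplex (ComplexShape.up ℤ) ≅ F.lift ⋙ (tw' ⋙ U'.Cob) :=
  Functor.associator _ _ _ ≪≫ Functor.isoWhiskerLeft tw F.cobIso ≪≫ (Functor.associator _ _ _).symm ≪≫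
    Functor.isoWhiskerRight θ U'.Cob ≪≫ Functor.associator _ _ _

end Beta

/-! ### Tensor product with an object: strengths -/

section Strength

open Groth.Agent.ResProp.EF.K945

variable {M : Type t} [Category.{t'} M] {S : C ⥤ M ⥤ C} (σ : K945.Strength G S) (N : M)

/-- an invertible strength compatible with the unit -/
def ofStrength (hτ : ∀ X, IsIso (σ.τ X N)) (hU : ∀ X, (S.map (U.e X)).app N ≫ σ.τ X N = U.e ((S.obj X).obj N)) :
    CHom U U (S.flip.obj N) where
  iso X := @asIso _ _ _ _ (σ.τ X N) (hτ X)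
  nat f := σ.nat₁ f N
  eps X := σ.counit X N
  del X := (σ.comul X N).symm
  one X := hU X

lemma ofStrength_lift (hτ : ∀ X, IsIso (σ.τ X N))
    (hU : ∀ X, (S.map (U.e X)).app N ≫ σ.τ X N = U.e ((S.obj X).obj N)) :
    (ofStrength σ N hτ hU).lift = σ.bifunctor.flip.obj N := rfl

end Strength

/-! ### Tensor product with a module over the base ring, for `GO R O` -/

section Gamma

open Groth.Agent.ResProp.EF.K945 MonoidalCategory

variable (R : Type u) [CommRing R] (O : Type u) [CommRing O] [Bialgebra R O] (N : ModuleCat.{u} R)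

/-- `- ⊗[R] N` is compatible with the comonad `- ⊗[R] O` -/
def tensN : CHom (UO R O) (UO R O) ((tb R).flip.obj N) :=
  ofStrength (sGO R O) N
    (fun X => Iso.isIso_hom (LinearEquiv.toModuleIso (TensorProduct.rightComm R X O N)))
    (fun X => by
      ext : 1
      exact TensorProduct.ext' fun m n => rfl)

lemma tensN_lift : (tensN R O N).lift = (sGO R O).bifunctor.flip.obj N := rfl

/-- `Cob(V) ⊗ N = Cob(V ⊗ N)` -/
def gammaCob : (UO R O).Cob ⋙ (tensorRight N).mapHomologicalComplex (ComplexShape.up ℤ) ≅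
    (sGO R O).bifunctor.flip.obj N ⋙ (UO R O).Cob :=
  have : ((tb R).flip.obj N).Additive := inferInstanceAs (tensorRight N).Additive
  (tensN R O N).cobIso

/-- `Cob(tw V) ⊗ N = Cob(tw (V ⊗ N))` -/
def gamma {tw : (GO R O).Coalgebra ⥤ (GO R O).Coalgebra}
    (θ : tw ⋙ (sGO R O).bifunctor.flip.obj N ≅ (sGO R O).bifunctor.flip.obj N ⋙ tw) :
    (tw ⋙ (UO R O).Cob) ⋙ (tensorRight N).mapHomologicalComplex (ComplexShape.up ℤ) ≅
      (sGO R O).bifunctor.flip.obj N ⋙ (tw ⋙ (UO R O).Cob) :=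
  have : ((tb R).flip.obj N).Additive := inferInstanceAs (tensorRight N).Additive
  beta (tensN R O N) θ

end Gamma

end Groth.Agent.ResProp.EF.K118.Lift
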