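import Groth.Agent.ResProp.EF.K742.GO
import Groth.Prelude.Def_ComodTens

/-!
# Twists of `(Γ, E)`-comodules by `E`-comodules (`S16912`, G6c [TW], helper118)

`str κ F : (M ⊗ O) ⊗ V → (M ⊗ V) ⊗ O`, `(m ⊗ a) ⊗ v ↦ Σ (m ⊗ v₀) ⊗ a v₁`, for a comodule `F : HopfRep.Comod k O V`.
`Law G T` : a functor `T : C ⥤ C` with `T G ⟶ G T` compatible with counit and comultiplication; `Law.lift`.
`tw s F : (GO s O).Coalgebra ⥤ (GO s O).Coalgebra` with underlying functor `tensC s V`.
-/

set_option autoImplicit false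

open CategoryTheory CategoryTheory.Limits Opposite TensorProduct

noncomputable section

namespace Groth.Agent.ResProp.EF.K118.TwC

open K784.BC K784.PM K741.RP EF56 Groth.Agent.ResProp.EF.K742

universe u v w

/-! ### Level -/

section level

variable {k R : Type u} [CommRing k] [CommRing R] (κ : k →+* R) {M : Type u} [AddCommGroup M] [Module R M]
variable {O : Type u} [CommRing O] [Bialgebra k O] {V : Type u} [AddCommGroup V] [Module k V]

/-- `v ⊗ c ↦ (m ⊗ v) ⊗ c` -/
def J (m : M) : V ⊗[k] O →+ TM κ (TM κ M V) O :=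
  TensorProduct.liftAddHom
    (AddMonoidHom.mk' (fun v => AddMonoidHom.mk' (fun c => TM.tm κ (TM.tm κ m v) c) (TM.tm_add_right κ _))
      fun v v' => by
        ext c
        change TM.tm κ (TM.tm κ m (v + v')) c = TM.tm κ (TM.tm κ m v) c + TM.tm κ (TM.tm κ m v') c
        rw [TM.tm_add_right, TM.tm_add_left])
    (fun c v b => by
      change TM.tm κ (TM.tm κ m (c • v)) b = TM.tm κ (TM.tm κ m v) (c • b)
      rw [← TM.k_smul_tm, TM.tm_k])

@[simp] theorem J_tmul (m : M) (v : V) (c : O) : J κ m (v ⊗ₜ[k] c) = TM.tm κ (TM.tm κ m v) c := rfl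

theorem J_add (m m' : M) (z : V ⊗[k] O) : J κ (m + m') z = J κ m z + J κ m' z := by
  induction z using TensorProduct.induction_on with
  | zero => simp
  | tmul v c => rw [J_tmul, J_tmul, J_tmul, TM.tm_add_left, TM.tm_add_left]
  | add x y hx hy => rw [map_add, map_add, map_add, hx, hy]; abel

theorem J_smul (r : R) (m : M) (z : V ⊗[k] O) : J κ (r • m) z = r • J κ m z := by
  induction z using TensorProduct.induction_on with
  | zero => simp
  | tmul v c => rw [J_tmul, J_tmul, TM.smul_tm, TM.smul_tm]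
  | add x y hx hy => rw [map_add, map_add, hx, hy, smul_add]

theorem J_k (c : k) (m : M) (z : V ⊗[k] O) : J κ (κ c • m) z = J κ m (c • z) := by
  induction z using TensorProduct.induction_on with
  | zero => simp
  | tmul v b => rw [TensorProduct.smul_tmul', J_tmul, J_tmul, TM.tm_k]
  | add x y hx hy => rw [smul_add, map_add, map_add, hx, hy]

/-- multiplication by `a` on `V ⊗ O` -/
abbrev mo (a : O) : V ⊗[k] O →ₗ[k] V ⊗[k] O := (LinearMap.mulLeft k a).lTensor V

theorem mo_tmul (a : O) (v : V) (c : O) : mo a (v ⊗ₜ[k] c) = v ⊗ₜ[k] (a * c) := rfl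

theorem mo_add (a a' : O) (z : V ⊗[k] O) : mo (a + a') z = mo a z + mo a' z := by
  induction z using TensorProduct.induction_on with
  | zero => simp
  | tmul v c => rw [mo_tmul, mo_tmul, mo_tmul, add_mul, TensorProduct.tmul_add]
  | add x y hx hy => rw [map_add, map_add, map_add, hx, hy]; abel

theorem mo_smul (c : k) (a : O) (z : V ⊗[k] O) : mo (c • a) z = c • mo a z := by
  induction z using TensorProduct.induction_on with
  | zero => simp
  | tmul v b => rw [mo_tmul, mo_tmul, smul_mul_assoc, TensorProduct.tmul_smul]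
  | add x y hx hy => rw [map_add, map_add, hx, hy, smul_add]

/-- `(m ⊗ a, v ⊗ c) ↦ (m ⊗ v) ⊗ a c` -/
def Q : TM κ M O →+ (V ⊗[k] O →+ TM κ (TM κ M V) O) :=
  TM.lift κ
    (AddMonoidHom.mk' (fun m => AddMonoidHom.mk' (fun a => (J κ m).comp (mo (V := V) a).toAddMonoidHom)
      fun a a' => by
        ext z
        change J κ m (mo (a + a') z) = J κ m (mo a z) + J κ m (mo a' z)
        rw [mo_add, map_add]) fun m m' => by
      ext a z
      exact J_add κ m m' _)
    (fun c m a => by
      ext z
      change J κ (κ c • m) (mo a z) = J κ m (mo (c • a) z)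
      rw [J_k, mo_smul])

theorem Q_tm (m : M) (a : O) (z : V ⊗[k] O) : Q κ (TM.tm κ m a) z = J κ m (mo a z) :=
  DFunLike.congr_fun (TM.lift_tm κ _ _ m a) z

theorem Q_smul (r : R) (x : TM κ M O) (z : V ⊗[k] O) : Q κ (r • x) z = r • Q κ x z := by
  induction x using TM.induction with
  | zero => simp
  | tm m a => rw [TM.smul_tm, Q_tm, Q_tm, J_smul]
  | add x y hx hy =>
    rw [smul_add, map_add, map_add, AddMonoidHom.add_apply, AddMonoidHom.add_apply, hx, hy, smul_add]

theorem Q_k (c : k) (x : TM κ M O) (z : V ⊗[k] O) : Q κ (κ c • x) z = Q κ x (c • z) := by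
  induction x using TM.induction with
  | zero => simp
  | tm m a => rw [TM.smul_tm, Q_tm, Q_tm, J_k, (mo (V := V) a).map_smul]
  | add x y hx hy => rw [smul_add, map_add, map_add, AddMonoidHom.add_apply, AddMonoidHom.add_apply, hx, hy]

variable (F : HopfRep.Comod k O V)

variable (M) in
/-- `(m ⊗ a) ⊗ v ↦ Σ (m ⊗ v₀) ⊗ a v₁` -/
def str : TM κ (TM κ M O) V →ₗ[R] TM κ (TM κ M V) O :=
  TM.liftL κ
    (AddMonoidHom.mk' (fun x => (Q κ x).comp F.coact.toAddMonoidHom) fun x x' => by
      rw [map_add]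
      rfl)
    (fun c x v => by
      change Q κ (κ c • x) (F.coact v) = Q κ x (F.coact (c • v))
      rw [Q_k, F.coact.map_smul])
    (fun r x v => Q_smul κ r x (F.coact v))

theorem str_tm (x : TM κ M O) (v : V) : str κ M F (TM.tm κ x v) = Q κ x (F.coact v) :=
  TM.liftL_tm κ _ _ _ x v

/-! #### counit -/

theorem epsL_Q (x : TM κ M O) (z : V ⊗[k] O) :
    epsL O κ (TM κ M V) (Q κ x z) =
      TM.tm κ (epsL O κ M x) (TensorProduct.rid k V ((Coalgebra.counit (R := k) (A := O)).lTensor V z)) := by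
  induction x using TM.induction with
  | zero => rw [map_zero, map_zero, AddMonoidHom.zero_apply, map_zero, TM.tm_zero_left]
  | tm m a =>
    rw [Q_tm]
    induction z using TensorProduct.induction_on with
    | zero => rw [map_zero, map_zero, map_zero, map_zero, map_zero, TM.tm_zero_right]
    | tmul v c =>
      rw [mo_tmul, J_tmul, epsL_tm, epsL_tm, Bialgebra.counit_mul, map_mul, LinearMap.lTensor_tmul,
        TensorProduct.rid_tmul, ← TM.tm_k, smul_smul, TM.smul_tm, mul_comm]
    | add z z' hz hz' => rw [map_add, map_add, map_add, map_add, map_add, TM.tm_add_right, hz, hz']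
  | add x y hx hy => rw [map_add, AddMonoidHom.add_apply, map_add, map_add, TM.tm_add_left, hx, hy]

theorem rid_counit (v : V) :
    TensorProduct.rid k V ((Coalgebra.counit (R := k) (A := O)).lTensor V (F.coact v)) = v := by
  have h := LinearMap.congr_fun F.counit_comp v
  change (Coalgebra.counit (R := k) (A := O)).lTensor V (F.coact v) = v ⊗ₜ[k] 1 at h
  rw [h, TensorProduct.rid_tmul, one_smul]

theorem str_eps (x : TM κ M O) (v : V) :
    epsL O κ (TM κ M V) (str κ M F (TM.tm κ x v)) = TM.tm κ (epsL O κ M x) v := by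
  rw [str_tm, epsL_Q, rid_counit]

/-! #### comultiplication -/

/-- `v ⊗ z ↦ ins (m ⊗ v) z` -/
def I (m : M) : V ⊗[k] (O ⊗[k] O) →+ TM κ (TM κ (TM κ M V) O) O :=
  TensorProduct.liftAddHom
    (AddMonoidHom.mk' (fun v => ins O κ (TM.tm κ m v)) fun v v' => by
      ext z
      rw [TM.tm_add_right, ins_add]
      rfl)
    (fun c v z => by
      change ins O κ (TM.tm κ m (c • v)) z = ins O κ (TM.tm κ m v) (c • z)
      rw [← TM.k_smul_tm, ins_k])

@[simp] theorem I_tmul (m : M) (v : V) (z : O ⊗[k] O) : I κ m (v ⊗ₜ[k] z) = ins O κ (TM.tm κ m v) z := rfl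

/-- multiplication by `w` on `V ⊗ (O ⊗ O)` -/
abbrev mw (w : O ⊗[k] O) : V ⊗[k] (O ⊗[k] O) →ₗ[k] V ⊗[k] (O ⊗[k] O) := (LinearMap.mulLeft k w).lTensor V

theorem mw_tmul (w : O ⊗[k] O) (v : V) (c : O ⊗[k] O) : mw w (v ⊗ₜ[k] c) = v ⊗ₜ[k] (w * c) := rfl

theorem mw_zero (z : V ⊗[k] (O ⊗[k] O)) : mw 0 z = 0 := by
  induction z using TensorProduct.induction_on with
  | zero => simp
  | tmul v c => rw [mw_tmul, zero_mul, TensorProduct.tmul_zero]
  | add x y hx hy => rw [map_add, hx, hy, add_zero]

theorem mw_add (a a' : O ⊗[k] O) (z : V ⊗[k] (O ⊗[k] O)) : mw (a + a') z = mw a z + mw a' z := by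
  induction z using TensorProduct.induction_on with
  | zero => simp
  | tmul v c => rw [mw_tmul, mw_tmul, mw_tmul, add_mul, TensorProduct.tmul_add]
  | add x y hx hy => rw [map_add, map_add, map_add, hx, hy]; abel

theorem delL_Q (m : M) (a : O) (z : V ⊗[k] O) :
    delL O κ (TM κ M V) (Q κ (TM.tm κ m a) z) =
      I κ m (mw (Coalgebra.comul (R := k) a) ((Coalgebra.comul (R := k) (A := O)).lTensor V z)) := by
  rw [Q_tm]
  induction z using TensorProduct.induction_on with
  | zero => simp only [map_zero]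
  | tmul v c => rw [mo_tmul, J_tmul, delL_tm, LinearMap.lTensor_tmul, mw_tmul, I_tmul, Bialgebra.comul_mul]
  | add z z' hz hz' => rw [map_add, map_add, map_add, map_add, map_add, map_add, hz, hz']

theorem tm_Q (m : M) (a b : O) (y : V ⊗[k] O) (c : O) :
    TM.tm κ (Q κ (TM.tm κ m a) y) (b * c) =
      I κ m (mw (a ⊗ₜ[k] b) (TensorProduct.assoc k V O O (y ⊗ₜ[k] c))) := by
  rw [Q_tm]
  induction y using TensorProduct.induction_on with
  | zero => rw [map_zero, map_zero, TM.tm_zero_left, TensorProduct.zero_tmul, map_zero, map_zero, map_zero]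
  | tmul v d =>
    rw [mo_tmul, J_tmul, TensorProduct.assoc_tmul, mw_tmul, I_tmul, Algebra.TensorProduct.tmul_mul_tmul, ins_tmul]
  | add z z' hz hz' => rw [map_add, map_add, TM.tm_add_left, TensorProduct.add_tmul, map_add, map_add, map_add, hz, hz']

theorem map_str_Q (m : M) (w : O ⊗[k] O) (z : V ⊗[k] O) :
    TM.map κ (str κ M F) (LinearMap.id : O →ₗ[k] O) (Q κ (ins O κ m w) z) =
      I κ m (mw w (TensorProduct.assoc k V O O (F.coact.rTensor O z))) := by
  induction w using TensorProduct.induction_on with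
  | zero => rw [map_zero, map_zero, AddMonoidHom.zero_apply, map_zero, mw_zero, map_zero]
  | tmul a b =>
    rw [ins_tmul, Q_tm]
    induction z using TensorProduct.induction_on with
    | zero => simp only [map_zero]
    | tmul v c =>
      rw [mo_tmul, J_tmul, TM.map_tm, str_tm, LinearMap.rTensor_tmul, ← tm_Q]
      rfl
    | add z z' hz hz' => rw [map_add, map_add, map_add, map_add, map_add, map_add, map_add, hz, hz']
  | add x y hx hy =>
    rw [map_add, map_add, AddMonoidHom.add_apply, map_add, mw_add, map_add, hx, hy]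

theorem str_del (x : TM κ M O) (v : V) :
    delL O κ (TM κ M V) (str κ M F (TM.tm κ x v)) =
      TM.map κ (str κ M F) (LinearMap.id : O →ₗ[k] O) (str κ (TM κ M O) F (TM.tm κ (delL O κ M x) v)) := by
  induction x using TM.induction with
  | zero => rw [TM.tm_zero_left, map_zero, map_zero, map_zero, TM.tm_zero_left, map_zero, map_zero]
  | tm m a =>
    rw [str_tm, delL_Q, delL_tm, str_tm, map_str_Q]
    have h := LinearMap.congr_fun F.coassoc v
    change TensorProduct.assoc k V O O (F.coact.rTensor O (F.coact v)) =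
      (Coalgebra.comul (R := k) (A := O)).lTensor V (F.coact v) at h
    rw [h]
  | add x y hx hy => rw [TM.tm_add_left, map_add, map_add, map_add, TM.tm_add_left, map_add, map_add, hx, hy]

/-! #### change of rings, functoriality -/

theorem smap_Q {S : Type u} [CommRing S] (κ' : k →+* S) (φ : R →+* S)
    (hφ : ∀ c, φ (κ c) = κ' c) {N : Type u} [AddCommGroup N] [Module S N]
    (f : M →+ N) (hf : ∀ (r : R) (m : M), f (r • m) = φ r • f m) (x : TM κ M O) (z : V ⊗[k] O) :
    TM.smap (W := O) κ' φ hφ (TM.smap (W := V) κ' φ hφ f hf) (TM.smap_smul κ' φ hφ f hf) (Q κ x z) =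
      Q κ' (TM.smap (W := O) κ' φ hφ f hf x) z := by
  induction x using TM.induction with
  | zero => rw [map_zero, map_zero, AddMonoidHom.zero_apply, map_zero, map_zero, AddMonoidHom.zero_apply]
  | tm m a =>
    rw [TM.smap_tm, Q_tm, Q_tm]
    induction z using TensorProduct.induction_on with
    | zero => simp only [map_zero]
    | tmul v c => rw [mo_tmul, J_tmul, J_tmul, TM.smap_tm, TM.smap_tm]
    | add z z' hz hz' => rw [map_add, map_add, map_add, map_add, hz, hz']
  | add x y hx hy => rw [map_add, AddMonoidHom.add_apply, map_add, map_add, map_add, AddMonoidHom.add_apply, hx, hy]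

theorem smap_str {S : Type u} [CommRing S] (κ' : k →+* S) (φ : R →+* S)
    (hφ : ∀ c, φ (κ c) = κ' c) {N : Type u} [AddCommGroup N] [Module S N]
    (f : M →+ N) (hf : ∀ (r : R) (m : M), f (r • m) = φ r • f m) (y : TM κ (TM κ M O) V) :
    str κ' N F (TM.smap (W := V) κ' φ hφ (TM.smap (W := O) κ' φ hφ f hf) (TM.smap_smul κ' φ hφ f hf) y) =
      TM.smap (W := O) κ' φ hφ (TM.smap (W := V) κ' φ hφ f hf) (TM.smap_smul κ' φ hφ f hf) (str κ M F y) := by
  induction y using TM.induction with
  | zero => simp only [map_zero]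
  | tm x v => rw [TM.smap_tm, str_tm, str_tm, smap_Q]
  | add x y hx hy => rw [map_add, map_add, map_add, map_add, hx, hy]

variable {V' : Type u} [AddCommGroup V'] [Module k V'] (F' : HopfRep.Comod k O V')

theorem map_Q {N : Type u} [AddCommGroup N] [Module R N] (f : M →ₗ[R] N) (g : V →ₗ[k] V') (x : TM κ M O)
    (z : V ⊗[k] O) :
    TM.map κ (TM.map κ f g) (LinearMap.id : O →ₗ[k] O) (Q κ x z) =
      Q κ (TM.map κ f (LinearMap.id : O →ₗ[k] O) x) (g.rTensor O z) := by
  induction x using TM.induction with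
  | zero => rw [map_zero, map_zero, AddMonoidHom.zero_apply, map_zero, map_zero, AddMonoidHom.zero_apply]
  | tm m a =>
    rw [TM.map_tm, Q_tm, Q_tm]
    induction z using TensorProduct.induction_on with
    | zero => simp only [map_zero]
    | tmul v c =>
      rw [mo_tmul, J_tmul, LinearMap.rTensor_tmul, mo_tmul, J_tmul, TM.map_tm, TM.map_tm]
      rfl
    | add z z' hz hz' => rw [map_add, map_add, map_add, map_add, map_add, map_add, hz, hz']
  | add x y hx hy =>
    rw [map_add, AddMonoidHom.add_apply, map_add, map_add, map_add, AddMonoidHom.add_apply, hx, hy]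

theorem map_str {N : Type u} [AddCommGroup N] [Module R N] (f : M →ₗ[R] N) (g : V →ₗ[k] V')
    (hg : ∀ v, F'.coact (g v) = g.rTensor O (F.coact v)) (y : TM κ (TM κ M O) V) :
    str κ N F' (TM.map κ (TM.map κ f (LinearMap.id : O →ₗ[k] O)) g y) =
      TM.map κ (TM.map κ f g) (LinearMap.id : O →ₗ[k] O) (str κ M F y) := by
  induction y using TM.induction with
  | zero => simp only [map_zero]
  | tm x v => rw [TM.map_tm, str_tm, str_tm, hg, map_Q]
  | add x y hx hy => rw [map_add, map_add, map_add, map_add, hx, hy]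

theorem map_id_of {f : M →ₗ[R] M} (hf : ∀ m, f m = m) (x : TM κ M O) :
    TM.map κ f (LinearMap.id : O →ₗ[k] O) x = x := by
  induction x using TM.induction with
  | zero => rw [map_zero]
  | tm m a => rw [TM.map_tm, hf]; rfl
  | add x y hx hy => rw [map_add, hx, hy]

end level

/-! ### Functors with a law over a comonad -/

section law

universe v₁ u₁

variable {C : Type u₁} [Category.{v₁} C]

/-- a functor `T` with a natural map `T G ⟶ G T` compatible with counit and comultiplication -/
structure Law (G : Comonad C) (T : C ⥤ C) where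
  τ : ∀ X : C, T.obj (G.obj X) ⟶ G.obj (T.obj X)
  nat : ∀ {X Y : C} (f : X ⟶ Y), T.map (G.map f) ≫ τ Y = τ X ≫ G.map (T.map f)
  eps : ∀ X : C, τ X ≫ G.ε.app (T.obj X) = T.map (G.ε.app X)
  del : ∀ X : C, τ X ≫ G.δ.app (T.obj X) = T.map (G.δ.app X) ≫ τ (G.obj X) ≫ G.map (τ X)

namespace Law

variable {G : Comonad C} {T : C ⥤ C} (L : Law G T)

/-- the functor on coalgebras, objects -/
@[simps A a]
def liftObj (M : G.Coalgebra) : G.Coalgebra where
  A := T.obj M.A
  a := T.map M.a ≫ L.τ M.A
  counit := by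
    have h : M.a ≫ G.ε.app M.A = 𝟙 M.A := M.counit
    rw [Category.assoc, L.eps, ← T.map_comp, h, T.map_id]
  coassoc := by
    have h : M.a ≫ G.δ.app M.A = M.a ≫ G.map M.a := M.coassoc
    change (T.map M.a ≫ L.τ M.A) ≫ G.δ.app (T.obj M.A) = (T.map M.a ≫ L.τ M.A) ≫ G.map (T.map M.a ≫ L.τ M.A)
    rw [Category.assoc, L.del, ← Category.assoc, ← T.map_comp, h, T.map_comp, Category.assoc,
      ← Category.assoc (T.map (G.map M.a)), L.nat, Category.assoc, Category.assoc, ← G.map_comp]

/-- the functor on coalgebras -/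
@[simps obj]
def lift : G.Coalgebra ⥤ G.Coalgebra where
  obj M := L.liftObj M
  map {M N} f :=
    { f := T.map f.f
      h := by
        have h : M.a ≫ G.map f.f = f.f ≫ N.a := f.h
        change (T.map M.a ≫ L.τ M.A) ≫ G.map (T.map f.f) = T.map f.f ≫ T.map N.a ≫ L.τ N.A
        rw [Category.assoc, ← L.nat, ← Category.assoc, ← T.map_comp, h, T.map_comp, Category.assoc] }
  map_id M := by
    ext
    exact T.map_id _
  map_comp f g := by
    ext
    exact T.map_comp _ _

lemma lift_map_f {M N : G.Coalgebra} (f : M ⟶ N) : (L.lift.map f).f = T.map f.f := rfl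

lemma lift_forget : L.lift ⋙ G.forget = G.forget ⋙ T := rfl

/-- a natural transformation compatible with the laws -/
def Compat {T' : C ⥤ C} (L' : Law G T') (φ : T ⟶ T') : Prop :=
  ∀ X : C, φ.app (G.obj X) ≫ L'.τ X = L.τ X ≫ G.map (φ.app X)

/-- the induced natural transformation -/
def liftMap {T' : C ⥤ C} {L' : Law G T'} {φ : T ⟶ T'} (h : Compat L L' φ) : L.lift ⟶ L'.lift where
  app M :=
    { f := φ.app M.A
      h := by
        have h1 := h M.A
        have h2 : T.map M.a ≫ φ.app (G.obj M.A) = φ.app M.A ≫ T'.map M.a := φ.naturality M.a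
        change (T.map M.a ≫ L.τ M.A) ≫ G.map (φ.app M.A) = φ.app M.A ≫ T'.map M.a ≫ L'.τ M.A
        rw [Category.assoc, ← h1, ← Category.assoc, h2, Category.assoc] }
  naturality M N f := by
    ext
    exact φ.naturality f.f

lemma liftMap_app_f {T' : C ⥤ C} {L' : Law G T'} {φ : T ⟶ T'} (h : Compat L L' φ) (M : G.Coalgebra) :
    ((liftMap L h).app M).f = φ.app M.A := rfl

end Law

end law

/-! ### The twist on `(GO s O).Coalgebra` -/

section comod

variable {k : Type u} [CommRing k] {A : NFᵒᵖ ⥤ CommRingCat.{u}} (s : KS k A)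
variable {O : Type u} [CommRing O] [Bialgebra k O] {V : Type u} [AddCommGroup V] [Module k V]
  (F : HopfRep.Comod k O V)

/-- `(M ⊗ O) ⊗ V → (M ⊗ V) ⊗ O` -/
def strP (M : PresheafOfModules.{u} (rf A)) : tensPobj s (tensPobj s M O) V ⟶ tensPobj s (tensPobj s M V) O :=
  mkHom (M := tensPobj s (tensPobj s M O) V) (N := tensPobj s (tensPobj s M V) O)
    (fun X => str (s.κ X) (M.obj X) F)
    fun {X Y} φ x => smap_str (s.κ X) F (s.κ Y) (A.map φ).hom (s.nat φ) (pmap M φ) (pmap_smul M φ) x

theorem strP_apply (M : PresheafOfModules.{u} (rf A)) (X : NFᵒᵖ) (x : TM (s.κ X) (TM (s.κ X) (M.obj X) O) V) :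
    lv (strP s F M) X x = str (s.κ X) (M.obj X) F x := rfl

/-- the law of `tensC s V` over `GO s O` -/
def lawC : Law (GO s O) (tensC s V) where
  τ M := ObjectProperty.homMk (strP s F M.obj)
  nat {M N} f := by
    apply ObjectProperty.hom_ext
    refine phom_ext fun X x => ?_
    refine (map_str (s.κ X) F F (lv f.hom X) (LinearMap.id : V →ₗ[k] V) (fun v => ?_) x)
    rw [LinearMap.rTensor_id]
    rfl
  eps M := by
    apply ObjectProperty.hom_ext
    refine tens_ext s fun X x v => ?_
    exact (str_eps (s.κ X) F x v).trans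
      (TM.map_tm (s.κ X) (epsL O (s.κ X) (M.obj.obj X)) (LinearMap.id : V →ₗ[k] V) x v).symm
  del M := by
    apply ObjectProperty.hom_ext
    refine tens_ext s fun X x v => ?_
    refine (str_del (s.κ X) F x v).trans ?_
    exact congrArg (fun t => TM.map (s.κ X) (str (s.κ X) (M.obj.obj X) F) (LinearMap.id : O →ₗ[k] O)
      (str (s.κ X) (TM (s.κ X) (M.obj.obj X) O) F t))
      (TM.map_tm (s.κ X) (delL O (s.κ X) (M.obj.obj X)) (LinearMap.id : V →ₗ[k] V) x v).symm

/-- **the twist by `F`** -/
def tw : (GO s O).Coalgebra ⥤ (GO s O).Coalgebra := (lawC s F).lift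

theorem tw_forget : tw s F ⋙ (GO s O).forget = (GO s O).forget ⋙ tensC s V := rfl

variable {V' : Type u} [AddCommGroup V'] [Module k V'] (F' : HopfRep.Comod k O V')

theorem compat_tensMap (g : V →ₗ[k] V') (hg : ∀ v, F'.coact (g v) = g.rTensor O (F.coact v)) :
    Law.Compat (lawC s F) (lawC s F') (tensMap s g) := by
  intro M
  apply ObjectProperty.hom_ext
  refine tens_ext s fun X x v => ?_
  refine (congrArg (str (s.κ X) (M.obj.obj X) F') (tensPmap_tm s (𝟙 (tensPobj s M.obj O)) g X x v)).trans ?_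
  refine ((str_tm (s.κ X) F' _ _).trans ?_)
  refine Eq.trans ?_ (congrArg (TM.map (s.κ X) (lv (tensPmap s (𝟙 M.obj) g) X) (LinearMap.id : O →ₗ[k] O))
    (str_tm (s.κ X) F x v)).symm
  refine Eq.trans ?_ (map_Q (s.κ X) (lv (𝟙 M.obj) X) g x (F.coact v)).symm
  rw [← hg, map_id_of (s.κ X) (fun _ => rfl) x]
  rfl

/-- functoriality of the twist in the comodule -/
def twMap (g : V →ₗ[k] V') (hg : ∀ v, F'.coact (g v) = g.rTensor O (F.coact v)) : tw s F ⟶ tw s F' :=
  Law.liftMap (lawC s F) (compat_tensMap s F F' g hg)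

theorem twMap_app_f (g : V →ₗ[k] V') (hg : ∀ v, F'.coact (g v) = g.rTensor O (F.coact v))
    (M : (GO s O).Coalgebra) : ((twMap s F F' g hg).app M).f = (tensMap s g).app M.A := rfl

end comod

end Groth.Agent.ResProp.EF.K118.TwC
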