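import Groth.Agent.ResProp.EF.K118.TwC
import Groth.Agent.ResProp.EF.K140.UE
import Groth.Agent.ResProp.EF.K679.TwBC

/-!
# Evaluation on the chart commutes with twists (`S16912`, G6c (H8) / (I8), helper118)

`theta s hs F : tw s F ⋙ uE s hs O ≅ uE s hs O ⋙ twR (bcF R F)`, `R = A⟨0⟩`, `F : HopfRep.Comod k O V`; natural in `F`
(`theta_nat`).  `betaTw` : `(tw s F ⋙ (unitGO s O).Cob) ⋙ vst = uE ⋙ (twR (bcF R F) ⋙ (UO R (R ⊗[k] O)).Cob)`.
-/

set_option autoImplicit false
set_option linter.dupNamespace false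

universe u

open CategoryTheory CategoryTheory.Limits Opposite TensorProduct

noncomputable section

namespace Groth.Agent.ResProp.EF.K118.TwUE

open EF56 K741.RP Groth.Agent.ResProp.EF.K742 Groth.Agent.ResProp.EF.K140 Groth.Agent.ResProp.EF.K118.TwC
open Groth.Agent.ResProp.EF.K679.Tw Groth.Agent.ResProp.EF.K679.TwR Groth.Agent.ResProp.EF.K679.TwBC

/-! ### Level -/

section level

variable {k : Type u} [CommRing k] {R : Type u} [CommRing R] [Algebra k R]
variable {κ : k →+* R} (hκ : ∀ c : k, κ c = algebraMap k R c)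
variable {O : Type u} [CommRing O] [Bialgebra k O] {V : Type u} [AddCommGroup V] [Module k V]
variable (P : Type u) [AddCommGroup P] [Module R P]

/-- `v ⊗ b ↦ (1 ⊗ v) ⊗ (1 ⊗ b)` -/
def ex : V ⊗[k] O →ₗ[k] (R ⊗[k] V) ⊗[R] (R ⊗[k] O) :=
  TensorProduct.lift (LinearMap.mk₂ k (fun v b => ((1 : R) ⊗ₜ[k] v) ⊗ₜ[R] ((1 : R) ⊗ₜ[k] b))
    (fun v v' b => by rw [TensorProduct.tmul_add, TensorProduct.add_tmul])
    (fun c v b => by rw [TensorProduct.tmul_smul]; rfl)
    (fun v b b' => by rw [TensorProduct.tmul_add, TensorProduct.tmul_add])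
    (fun c v b => by rw [TensorProduct.tmul_smul, TensorProduct.tmul_smul]))

@[simp] lemma ex_tmul (v : V) (b : O) :
    ex (R := R) (v ⊗ₜ[k] b) = ((1 : R) ⊗ₜ[k] v) ⊗ₜ[R] ((1 : R) ⊗ₜ[k] b) := rfl

lemma ex_eq (z : V ⊗[k] O) : ex (R := R) z =
    AlgebraTensorModule.tensorTensorTensorComm k R k R R R V O (((1 : R) ⊗ₜ[R] (1 : R)) ⊗ₜ[k] z) := by
  induction z using TensorProduct.induction_on with
  | zero => simp only [map_zero, TensorProduct.tmul_zero]
  | tmul v b => rw [AlgebraTensorModule.tensorTensorTensorComm_tmul]; rfl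
  | add x y hx hy => simp only [map_add, TensorProduct.tmul_add, hx, hy]

lemma bcF_one (F : HopfRep.Comod k O V) (v : V) :
    (bcF R F).coact ((1 : R) ⊗ₜ[k] v) = ex (R := R) (F.coact v) := by
  rw [ex_eq]
  rfl

lemma bbQ (y : TM κ P O) (z : V ⊗[k] O) :
    (tb V hκ P).toLinearMap.rTensor (R ⊗[k] O) (tb O hκ (TM κ P V) (Q κ y z)) =
      bb (tb O hκ P y ⊗ₜ[R] ex (R := R) z) := by
  induction y using TM.induction with
  | zero => simp only [map_zero, AddMonoidHom.zero_apply, TensorProduct.zero_tmul]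
  | add x y hx hy => simp only [map_add, AddMonoidHom.add_apply, TensorProduct.add_tmul, hx, hy]
  | tm m a =>
    rw [Q_tm]
    induction z using TensorProduct.induction_on with
    | zero => simp only [map_zero, TensorProduct.tmul_zero]
    | add x y hx hy => simp only [map_add, TensorProduct.tmul_add, hx, hy]
    | tmul v b =>
      rw [mo_tmul, J_tmul, tb_tm, tb_tm, ex_tmul, bb_tmul, Algebra.TensorProduct.tmul_mul_tmul, one_mul]
      change tb V hκ P (TM.tm κ m v) ⊗ₜ[R] ((1 : R) ⊗ₜ[k] (a * b)) = _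
      rw [tb_tm]

/-- the coaction of the twist on the chart -/
theorem level (F : HopfRep.Comod k O V) (a : P →ₗ[R] TM κ P O) (c : HopfRep.Comod R (R ⊗[k] O) P)
    (hc : ∀ m, c.coact m = tb O hκ P (a m)) (x : TM κ P V) :
    (tb V hκ P).toLinearMap.rTensor (R ⊗[k] O)
        (tb O hκ (TM κ P V) (str κ P F (TM.map κ a (LinearMap.id : V →ₗ[k] V) x))) =
      (ComodTens.Comod.tensor c (bcF R F)).coact (tb V hκ P x) := by
  induction x using TM.induction with
  | zero => simp only [map_zero]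
  | add x y hx hy => simp only [map_add, hx, hy]
  | tm m v =>
    rw [TM.map_tm, str_tm, bbQ, tb_tm, tensor_coact, hc, bcF_one]
    rfl

end level

/-! ### The isomorphism of functors -/

section

variable {k : Type u} [CommRing k] {A : NFᵒᵖ ⥤ CommRingCat.{u}} (s : KS k A)
variable [Algebra k (A.obj (op (⟨0⟩ : NF)))]
  (hs : ∀ c : k, s.κ (op ⟨0⟩) c = algebraMap k (A.obj (op (⟨0⟩ : NF))) c)
variable {O : Type u} [CommRing O] [Bialgebra k O] {V : Type u} [AddCommGroup V] [Module k V]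
  (F : HopfRep.Comod k O V)

/-- objects -/
def thetaObj (M : (K742.GO s O).Coalgebra) :
    (uE s hs O).obj ((tw s F).obj M) ≅ (twR (bcF (A.obj (op (⟨0⟩ : NF))) F)).obj ((uE s hs O).obj M) :=
  Comonad.Coalgebra.isoMk
    (A := (uE s hs O).obj ((tw s F).obj M))
    (B := (twR (bcF (A.obj (op (⟨0⟩ : NF))) F)).obj ((uE s hs O).obj M))
    (LinearEquiv.toModuleIso (tb V hs ((vst A).obj M.A))) (by
      apply ModuleCat.hom_ext
      apply LinearMap.ext
      intro x
      exact level hs ((vst A).obj M.A) F ((vst A).map M.a).hom (K496.toComod ((uE s hs O).obj M))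
        (fun m => rfl) x)

/-- **evaluation on the chart commutes with twists** -/
def theta : tw s F ⋙ uE s hs O ≅ uE s hs O ⋙ twR (bcF (A.obj (op (⟨0⟩ : NF))) F) :=
  NatIso.ofComponents (fun M => thetaObj s hs F M) fun {M N} f => by
    apply Comonad.Coalgebra.Hom.ext
    apply ModuleCat.hom_ext
    apply LinearMap.ext
    intro x
    exact tb_nat V hs ((vst A).map f.f).hom x

theorem theta_hom_app_f (M : (K742.GO s O).Coalgebra) :
    ((theta s hs F).hom.app M).f = (tbIso s hs V M.A).hom := rfl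

variable {V' : Type u} [AddCommGroup V'] [Module k V'] (F' : HopfRep.Comod k O V')

/-- naturality in the comodule -/
theorem theta_nat (g : V →ₗ[k] V') (hg : ∀ v, F'.coact (g v) = g.rTensor O (F.coact v)) :
    Functor.whiskerRight (twMap s F F' g hg) (uE s hs O) ≫ (theta s hs F').hom =
      (theta s hs F).hom ≫ Functor.whiskerLeft (uE s hs O)
        (twRMap (bcF (A.obj (op (⟨0⟩ : NF))) F) (bcF (A.obj (op (⟨0⟩ : NF))) F')
          (g.baseChange (A.obj (op (⟨0⟩ : NF)))) (bcF_nat F F' g hg)) := by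
  apply NatTrans.ext
  funext M
  apply Comonad.Coalgebra.Hom.ext
  apply ModuleCat.hom_ext
  apply LinearMap.ext
  intro x
  exact tb_map V hs (LinearMap.id : (vst A).obj M.A →ₗ[(A.obj (op (⟨0⟩ : NF)))] (vst A).obj M.A) g x

section Ab

variable [Fact (GR A)]

/-- `beta` with the twist: the hypothesis (H8) -/
def betaTw : (tw s F ⋙ (K742.unitGO s O).Cob) ⋙ (vst A).mapHomologicalComplex (ComplexShape.up ℤ) ≅
    uE s hs O ⋙ (twR (bcF (A.obj (op (⟨0⟩ : NF))) F) ⋙
      (K496.UO (A.obj (op (⟨0⟩ : NF))) ((A.obj (op (⟨0⟩ : NF))) ⊗[k] O)).Cob) :=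
  Lift.beta (ueHom s hs O) (theta s hs F)

end Ab

end

end Groth.Agent.ResProp.EF.K118.TwUE
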